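import Mathlib
import Cfsg.Agent.Lib.ClassSizeTriple.Fpf

/-!
# A simple group cannot have all point stabilisers of an automorphism action maximal

If a group `H` acts on a non-abelian simple group `T` by automorphisms and anti-automorphisms,
inducing all inner automorphisms, then some stabiliser of a non-identity element is not maximal
in `H`.
-/

set_option autoImplicit false

namespace Cfsg.Agent.ExtremelyPrimitive

open MulAction

universe u

section burnside

variable {T : Type u} [Group T] [Finite T] [IsSimpleGroup T] {p : ℕ} [Fact p.Prime]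

/-- In a non-abelian simple group no non-trivial Sylow subgroup is central in its normaliser. -/
theorem no_central_sylow (hnc : ¬ ∀ a b : T, a * b = b * a) (P : Sylow p T) (hP1 : (P : Subgroup T) ≠ ⊥)
    (hP : Subgroup.normalizer ((P : Subgroup T) : Set T) ≤ Subgroup.centralizer ((P : Subgroup T) : Set T)) :
    False := by
  have hc := MonoidHom.ker_transferSylow_isComplement' P hP
  rcases (MonoidHom.normal_ker (MonoidHom.transferSylow P hP)).eq_bot_or_eq_top with h | h
  · rw [h, Subgroup.isComplement'_bot_left] at hc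
    refine hnc fun a b => ?_
    have hb : b ∈ (P : Subgroup T) := hc ▸ Subgroup.mem_top b
    have ha : a ∈ (P : Subgroup T) := hc ▸ Subgroup.mem_top a
    exact (Subgroup.mem_centralizer_iff.1 (hP (Subgroup.le_normalizer hb)) a ha)
  · rw [h, Subgroup.isComplement'_top_left] at hc
    exact hP1 hc

end burnside

variable {T : Type u} [Group T] [Finite T] [IsSimpleGroup T] {H : Type*} [Group H] [MulAction H T]

/-- The hypotheses: an action by automorphisms and anti-automorphisms with maximal stabilisers. -/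
structure MaxAction (T H : Type*) [Group T] [Group H] [MulAction H T] : Prop where
  nc : ¬ ∀ a b : T, a * b = b * a
  auto : ∀ h : H, (∀ x y : T, h • (x * y) = h • x * h • y) ∨ ∀ x y : T, h • (x * y) = h • y * h • x
  inn : ∀ t : T, ∃ h : H, ∀ x : T, h • x = t * x * t⁻¹
  max : ∀ x : T, x ≠ 1 → ∀ L : Subgroup H, stabilizer H x ≤ L → L = stabilizer H x ∨ L = ⊤

variable (hM : MaxAction T H)
include hM

omit [Finite T] [IsSimpleGroup T] in
theorem smul_pow' (h : H) (x : T) (n : ℕ) : h • x ^ n = (h • x) ^ n := by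
  have h1 : h • (1 : T) = 1 := by
    rcases hM.auto h with H1 | H1 <;>
    · have := H1 1 1
      rw [mul_one] at this
      exact mul_eq_left.1 this.symm
  induction n with
  | zero => rw [pow_zero, pow_zero, h1]
  | succ n ih =>
    rcases hM.auto h with H1 | H1
    · rw [pow_succ, H1, ih, ← pow_succ]
    · rw [pow_succ, H1, ih, ← pow_succ']

omit [Finite T] in
theorem exists_ne_comm {x : T} (hx : x ≠ 1) : ∃ t : T, t * x ≠ x * t := by
  by_contra hne
  simp only [ne_eq, not_exists, not_not] at hne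
  rcases (inferInstance : (Subgroup.center T).Normal).eq_bot_or_eq_top with h | h
  · exact hx ((Subgroup.mem_bot).1 (h ▸ Subgroup.mem_center_iff.2 hne))
  · exact hM.nc fun a b => (Subgroup.mem_center_iff.1 (h ▸ Subgroup.mem_top b) a)

omit [Finite T] in
theorem stab_ne_top {x : T} (hx : x ≠ 1) : stabilizer H x ≠ ⊤ := by
  intro h
  obtain ⟨t, ht⟩ := exists_ne_comm hM hx
  obtain ⟨g, hg⟩ := hM.inn t
  have : g • x = x := (h ▸ Subgroup.mem_top g : g ∈ stabilizer H x)
  rw [hg, mul_inv_eq_iff_eq_mul] at this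
  exact ht this

omit [IsSimpleGroup T] [Finite T] in
/-- A subgroup preserved by a stabiliser and normalised by `t` but not normal: `t` commutes. -/
theorem comm_of_normalizes {x : T} (hx : x ≠ 1) (W : Subgroup T) (hW : ¬ W.Normal)
    (hinv : ∀ h : H, h • x = x → ∀ w : T, w ∈ W → h • w ∈ W)
    {t : T} (ht : ∀ w : T, w ∈ W ↔ t * w * t⁻¹ ∈ W) : t * x = x * t := by
  let L : Subgroup H :=
    { carrier := {h | ∀ w : T, w ∈ W ↔ h • w ∈ W}
      one_mem' := fun w => by rw [one_smul]
      mul_mem' := fun {a b} ha hb w => by rw [mul_smul]; exact (hb w).trans (ha _)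
      inv_mem' := fun {a} ha w => by
        rw [ha (a⁻¹ • w), smul_inv_smul] }
  have hle : stabilizer H x ≤ L := fun h hh w =>
    ⟨hinv h hh w, fun hw => by
      simpa using hinv h⁻¹ (inv_smul_eq_iff.2 (MulAction.mem_stabilizer_iff.1 hh).symm) _ hw⟩
  have hL : L ≠ ⊤ := fun h => hW ⟨fun w hw g => by
    obtain ⟨k, hk⟩ := hM.inn g
    have := ((h ▸ Subgroup.mem_top k : k ∈ L) w).1 hw
    rwa [hk] at this⟩
  obtain ⟨k, hk⟩ := hM.inn t
  have hkL : k ∈ L := fun w => by rw [hk]; exact ht w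
  rw [(hM.max x hx L hle).resolve_right hL, MulAction.mem_stabilizer_iff, hk,
    mul_inv_eq_iff_eq_mul] at hkL
  exact hkL

/-- The normaliser of a cyclic subgroup centralises it. -/
theorem zpowers_norm {x t : T} (ht : ∀ w : T, w ∈ Subgroup.zpowers x ↔ t * w * t⁻¹ ∈ Subgroup.zpowers x) :
    t * x = x * t := by
  by_cases hx : x = 1
  · subst hx; simp
  refine comm_of_normalizes hM hx _ (fun hn => ?_) (fun h hh w hw => ?_) ht
  · rcases hn.eq_bot_or_eq_top with h | h
    · exact hx (Subgroup.mem_bot.1 (h ▸ Subgroup.mem_zpowers x))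
    · refine hM.nc fun a b => ?_
      obtain ⟨i, rfl⟩ := (h ▸ Subgroup.mem_top a : a ∈ Subgroup.zpowers x)
      obtain ⟨j, rfl⟩ := (h ▸ Subgroup.mem_top b : b ∈ Subgroup.zpowers x)
      exact ((Commute.refl x).zpow_zpow i j).eq
  · obtain ⟨i, rfl⟩ := mem_powers_iff_mem_zpowers.2 hw
    rw [smul_pow' hM, hh]
    exact Subgroup.pow_mem _ (Subgroup.mem_zpowers x) _

omit [Finite T] in
/-- Commuting elements of coprime orders have the same centraliser. -/
theorem centralizer_eq {x y : T} (hx : x ≠ 1) (hy : y ≠ 1) (hc : Commute x y)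
    (hco : (orderOf x).Coprime (orderOf y)) :
    Subgroup.centralizer {x} = Subgroup.centralizer {y} := by
  have hxy : x * y ≠ 1 := fun h => by
    have : x = y⁻¹ := eq_inv_of_mul_eq_one_left h
    rw [this, orderOf_inv, Nat.coprime_self, orderOf_eq_one_iff] at hco
    exact hy hco
  have key : ∀ a b : T, Commute a b → (orderOf a).Coprime (orderOf b) → b ≠ 1 → a * b ≠ 1 →
      stabilizer H (a * b) = stabilizer H b := by
    intro a b hab hc' hb hne
    have hle : stabilizer H (a * b) ≤ stabilizer H b := by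
      intro h hh
      obtain ⟨m, hm⟩ := exists_pow_eq_self_of_coprime hc'
      rw [MulAction.mem_stabilizer_iff] at hh ⊢
      have hab' : (a * b) ^ orderOf a = b ^ orderOf a := by
        rw [hab.mul_pow, pow_orderOf_eq_one, one_mul]
      rw [← hm, ← hab', smul_pow' hM, smul_pow' hM, hh]
    exact ((hM.max _ hne _ hle).resolve_right (stab_ne_top hM hb)).symm
  have hs : stabilizer H x = stabilizer H y := by
    rw [← key x y hc hco hy hxy, hc.eq, key y x hc.symm hco.symm hx (hc.eq ▸ hxy)]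
  ext t
  rw [Subgroup.mem_centralizer_singleton_iff, Subgroup.mem_centralizer_singleton_iff]
  obtain ⟨g, hg⟩ := hM.inn t
  have e1 : g ∈ stabilizer H x ↔ t * x = x * t := by
    rw [MulAction.mem_stabilizer_iff, hg, mul_inv_eq_iff_eq_mul]
  have e2 : g ∈ stabilizer H y ↔ t * y = y * t := by
    rw [MulAction.mem_stabilizer_iff, hg, mul_inv_eq_iff_eq_mul]
  rw [← e1, ← e2, hs]

/-- Centralisers are self-normalising. -/
theorem centralizer_self_norm {x : T} (hx : x ≠ 1) {t : T}
    (ht : t ∈ Subgroup.normalizer ((Subgroup.centralizer {x} : Subgroup T) : Set T)) :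
    t ∈ Subgroup.centralizer {x} := by
  rw [Subgroup.mem_centralizer_singleton_iff]
  refine comm_of_normalizes hM hx _ (fun hn => ?_) (fun h hh w hw => ?_)
    (fun w => Subgroup.mem_normalizer_iff.1 ht w)
  · rcases hn.eq_bot_or_eq_top with h | h
    · exact hx (Subgroup.mem_bot.1 (h ▸ Subgroup.mem_centralizer_singleton_iff.2 rfl))
    · obtain ⟨a, ha⟩ := exists_ne_comm hM hx
      exact ha (Subgroup.mem_centralizer_singleton_iff.1 (h ▸ Subgroup.mem_top a))
  · rw [Subgroup.mem_centralizer_singleton_iff] at hw ⊢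
    rcases hM.auto h with H1 | H1
    · have h1 := H1 w x
      rw [hw, H1, hh] at h1
      exact h1.symm
    · have h1 := H1 w x
      rw [hw, H1, hh] at h1
      exact h1

variable {p : ℕ} [Fact p.Prime]

/-- The centraliser of a non-trivial `p`-element is a Sylow `p`-subgroup. -/
theorem centralizer_sylow {x : T} (hx : x ≠ 1) {k : ℕ} (hk : orderOf x = p ^ k) :
    ∃ P : Sylow p T, (P : Subgroup T) = Subgroup.centralizer {x} := by
  classical
  have hpp : p.Prime := Fact.out
  set D := Subgroup.centralizer {x} with hD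
  have hxD : x ∈ D := Subgroup.mem_centralizer_singleton_iff.2 rfl
  have hP : IsPGroup p D := by
    by_contra hne
    -- an element of another prime order makes the `p`-elements central
    have : ∃ q : ℕ, q.Prime ∧ q ∣ Nat.card D ∧ q ≠ p := by
      by_contra h'
      simp only [not_exists, not_and, ne_eq, not_not] at h'
      exact hne (IsPGroup.of_card (Nat.eq_prime_pow_of_unique_prime_dvd Nat.card_pos.ne'
        fun {d} hd hdd => h' d hd hdd))
    obtain ⟨q, hq, hqd, hqp⟩ := this
    have := Fact.mk hq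
    obtain ⟨⟨y, hyD⟩, hy⟩ := exists_prime_orderOf_dvd_card' (G := D) q hqd
    rw [Subgroup.orderOf_mk] at hy
    have hy1 : y ≠ 1 := fun h => hq.ne_one (by rw [← hy, h, orderOf_one])
    have hcop : ∀ n : ℕ, (p ^ n).Coprime q := fun n =>
      Nat.Coprime.pow_left n ((Nat.coprime_primes hpp hq).2 hqp.symm)
    have hxy : D = Subgroup.centralizer {y} :=
      centralizer_eq hM hx hy1 (Subgroup.mem_centralizer_singleton_iff.1 hyD).symm
        (by rw [hk, hy]; exact hcop k)
    have hcen : ∀ u ∈ D, (∃ n, orderOf u = p ^ n) → ∀ w ∈ D, w * u = u * w := by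
      rintro u hu ⟨n, hn⟩ w hw
      by_cases hu1 : u = 1
      · simp [hu1]
      have huy : Subgroup.centralizer {u} = Subgroup.centralizer {y} :=
        centralizer_eq hM hu1 hy1 (Subgroup.mem_centralizer_singleton_iff.1 (hxy ▸ hu))
          (by rw [hn, hy]; exact hcop n)
      exact Subgroup.mem_centralizer_singleton_iff.1 (huy.symm ▸ hxy ▸ hw)
    let Q : Subgroup T :=
      { carrier := {u | u ∈ D ∧ ∃ n, orderOf u = p ^ n}
        one_mem' := ⟨D.one_mem, 0, by simp⟩
        mul_mem' := by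
          rintro u w ⟨hu, n, hn⟩ ⟨hw, m, hm⟩
          refine ⟨D.mul_mem hu hw, ?_⟩
          have hd := (show Commute u w from hcen w hw ⟨m, hm⟩ u hu).orderOf_mul_dvd_lcm
          rw [hn, hm] at hd
          obtain ⟨j, -, hj⟩ := (Nat.dvd_prime_pow hpp).1
            (hd.trans (Nat.lcm_dvd (pow_dvd_pow p (le_max_left n m)) (pow_dvd_pow p (le_max_right n m))))
          exact ⟨j, hj⟩
        inv_mem' := by
          rintro u ⟨hu, n, hn⟩
          exact ⟨D.inv_mem hu, n, by rw [orderOf_inv, hn]⟩ }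
    have hQp : IsPGroup p Q := IsPGroup.iff_orderOf.2 fun u => by
      obtain ⟨n, hn⟩ := u.2.2
      exact ⟨n, by rw [← Subgroup.orderOf_coe, hn]⟩
    have hxQ : x ∈ Q := ⟨hxD, k, hk⟩
    have hCQ : ∀ t : T, t ∈ Subgroup.centralizer (Q : Set T) ↔ t ∈ D := fun t =>
      ⟨fun ht => Subgroup.mem_centralizer_singleton_iff.2 (Subgroup.mem_centralizer_iff.1 ht x hxQ).symm,
        fun ht => Subgroup.mem_centralizer_iff.2 fun u hu => (hcen u hu.1 hu.2 t ht).symm⟩
    have hNQ : Subgroup.normalizer (Q : Set T) ≤ D := fun t ht => by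
      refine centralizer_self_norm hM hx (Subgroup.mem_normalizer_iff.2 fun w => ?_)
      have hC : t ∈ Subgroup.normalizer ((Subgroup.centralizer (Q : Set T)) : Set T) := by
        refine Subgroup.mem_normalizer_iff.2 fun w => ?_
        simp only [Subgroup.mem_centralizer_iff]
        refine ⟨fun hw u hu => ?_, fun hw u hu => ?_⟩
        · have h1 := hw (t⁻¹ * u * t) ((Subgroup.mem_normalizer_iff.1 ht _).2 (by simpa [mul_assoc] using hu))
          calc u * (t * w * t⁻¹) = t * ((t⁻¹ * u * t) * w) * t⁻¹ := by group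
            _ = t * (w * (t⁻¹ * u * t)) * t⁻¹ := by rw [h1]
            _ = t * w * t⁻¹ * u := by group
        · have h1 := hw (t * u * t⁻¹) ((Subgroup.mem_normalizer_iff.1 ht u).1 hu)
          calc u * w = t⁻¹ * ((t * u * t⁻¹) * (t * w * t⁻¹)) * t := by group
            _ = t⁻¹ * ((t * w * t⁻¹) * (t * u * t⁻¹)) * t := by rw [h1]
            _ = w * u := by group
      have := Subgroup.mem_normalizer_iff.1 hC w
      rwa [hCQ, hCQ] at this
    have hmax : ∀ {R : Subgroup T}, IsPGroup p R → Q ≤ R → R = Q := by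
      intro R hR hle
      by_contra hne'
      have := hR.isNilpotent
      have hlt : Q.subgroupOf R < ⊤ := lt_top_iff_ne_top.2 fun h =>
        hne' (le_antisymm (Subgroup.subgroupOf_eq_top.1 h) hle)
      obtain ⟨n, hn, hnQ⟩ := SetLike.exists_of_lt (Group.normalizerCondition_of_isNilpotent _ hlt)
      refine hnQ (Subgroup.mem_subgroupOf.2 ⟨hNQ (Subgroup.mem_normalizer_iff.2 fun w => ?_), ?_⟩)
      · constructor
        · intro hw
          exact (Subgroup.mem_normalizer_iff.1 hn ⟨w, hle hw⟩).1 hw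
        · intro hw
          have hwR : w ∈ R := by
            have := R.mul_mem (R.mul_mem (R.inv_mem n.2) (hle hw)) n.2
            simpa [mul_assoc] using this
          exact (Subgroup.mem_normalizer_iff.1 hn ⟨w, hwR⟩).2 hw
      · obtain ⟨j, hj⟩ := IsPGroup.iff_orderOf.1 hR n
        exact ⟨j, by rw [Subgroup.orderOf_coe, hj]⟩
    exact no_central_sylow hM.nc ⟨Q, hQp, hmax⟩
      (fun h => hx (Subgroup.mem_bot.1 (h.le hxQ))) fun t ht => (hCQ t).2 (hNQ ht)
  refine ⟨⟨D, hP, fun {R} hR hle => ?_⟩, rfl⟩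
  by_contra hne'
  have := hR.isNilpotent
  have hlt : D.subgroupOf R < ⊤ := lt_top_iff_ne_top.2 fun h =>
    hne' (le_antisymm (Subgroup.subgroupOf_eq_top.1 h) hle)
  obtain ⟨n, hn, hnD⟩ := SetLike.exists_of_lt (Group.normalizerCondition_of_isNilpotent _ hlt)
  refine hnD (Subgroup.mem_subgroupOf.2 (centralizer_self_norm hM hx
    (Subgroup.mem_normalizer_iff.2 fun w => ⟨fun hw => ?_, fun hw => ?_⟩)))
  · exact (Subgroup.mem_normalizer_iff.1 hn ⟨w, hle hw⟩).1 hw
  · have hwR : w ∈ R := by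
      have := R.mul_mem (R.mul_mem (R.inv_mem n.2) (hle hw)) n.2
      simpa [mul_assoc] using this
    exact (Subgroup.mem_normalizer_iff.1 hn ⟨w, hwR⟩).2 hw

/-- Distinct Sylow subgroups meet trivially. -/
theorem sylow_ti (P Q : Sylow p T) {u : T} (hu : u ≠ 1) (huP : u ∈ (P : Subgroup T))
    (huQ : u ∈ (Q : Subgroup T)) : P = Q := by
  classical
  by_contra hne
  have : Finite (Sylow p T) := inferInstance
  let Z := {PQ : Sylow p T × Sylow p T //
    PQ.1 ≠ PQ.2 ∧ (PQ.1 : Subgroup T) ⊓ PQ.2 ≠ ⊥}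
  have : Nonempty Z := ⟨⟨(P, Q), hne, fun h => hu (Subgroup.mem_bot.1 (h.le ⟨huP, huQ⟩))⟩⟩
  obtain ⟨⟨⟨A, B⟩, hAB, hD1⟩, hmax⟩ :=
    Finite.exists_max (fun z : Z => Nat.card ((z.1.1 : Subgroup T) ⊓ z.1.2 : Subgroup T))
  set D : Subgroup T := (A : Subgroup T) ⊓ B with hD
  set N : Subgroup T := Subgroup.normalizer (D : Set T) with hN
  have hfpf : ∀ r ∈ N, (∃ q, q.Prime ∧ q ≠ p ∧ ∃ n, orderOf r = q ^ n) →
      ∀ d ∈ D, r * d = d * r → r = 1 ∨ d = 1 := by
    rintro r - ⟨q, hq, hqp, n, hn⟩ d hd hrd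
    by_contra hh
    obtain ⟨hr1, hd1⟩ := not_or.1 hh
    obtain ⟨m, hm⟩ := IsPGroup.iff_orderOf.1 A.2 ⟨d, hd.1⟩
    rw [Subgroup.orderOf_mk] at hm
    obtain ⟨S, hS⟩ := centralizer_sylow hM hd1 hm
    obtain ⟨j, hj⟩ := IsPGroup.iff_orderOf.1 S.2
      ⟨r, hS ▸ Subgroup.mem_centralizer_singleton_iff.2 hrd⟩
    rw [Subgroup.orderOf_mk, hn] at hj
    rcases Nat.eq_zero_or_pos n with rfl | hn0
    · exact hr1 (orderOf_eq_one_iff.1 (by rw [hn, pow_zero]))
    · exact hqp ((Nat.prime_dvd_prime_iff_eq hq Fact.out).1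
        (hq.dvd_of_dvd_pow (hj ▸ dvd_pow_self q hn0.ne')))
  -- the subgroup generated by the `p`-elements of `N`
  let Mg : Subgroup N := Subgroup.closure {g : N | ∃ n, orderOf g = p ^ n}
  have hMg : IsPGroup p Mg := by
    refine IsPGroup.of_card (Nat.eq_prime_pow_of_unique_prime_dvd Nat.card_pos.ne' fun {q} hq hqd => ?_)
    by_contra hqp
    have := Fact.mk hq
    obtain ⟨R⟩ : Nonempty (Sylow q N) := inferInstance
    have hR : ∀ r ∈ (R : Subgroup N), ∃ n, orderOf (r : T) = q ^ n := fun r hr => by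
      obtain ⟨n, hn⟩ := IsPGroup.iff_orderOf.1 R.2 ⟨r, hr⟩
      exact ⟨n, by rw [Subgroup.orderOf_coe]; simpa using hn⟩
    have hcyc : ∀ A' : Subgroup N, A' ≤ (R : Subgroup N) → IsMulCommutative A' → IsCyclic A' := by
      intro A' hA' hcomm
      have : Nontrivial D := (Subgroup.nontrivial_iff_ne_bot D).2 hD1
      refine ClassTriple.isCyclic_of_fpf_comm
        ((Subgroup.normalizerMonoidHom D).comp A'.subtype) fun r hr d hd => ?_
      have hd' : ((r : N) : T) * d * ((r : N) : T)⁻¹ = d := congrArg Subtype.val hd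
      rcases hfpf _ (r : N).2 ⟨q, hq, hqp, hR _ (hA' r.2)⟩ d d.2 (mul_inv_eq_iff_eq_mul.1 hd') with h | h
      · exact absurd (Subtype.ext (Subtype.ext h)) hr
      · exact Subtype.ext h
    have hnormC : ∀ r t : N, (∀ w : N, w ∈ Subgroup.zpowers r ↔ t * w * t⁻¹ ∈ Subgroup.zpowers r) →
        t * r = r * t := by
      intro r t h
      refine Subtype.ext (zpowers_norm hM fun w => ?_)
      constructor
      · rintro ⟨i, rfl⟩
        obtain ⟨j, hj⟩ := (h (r ^ i)).1 ⟨i, rfl⟩
        refine ⟨j, ?_⟩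
        simpa using congrArg Subtype.val hj
      · rintro ⟨i, hi⟩
        have hwN : t⁻¹ * r ^ i * t ∈ Subgroup.zpowers r :=
          (h _).2 ⟨i, by group⟩
        obtain ⟨j, hj⟩ := hwN
        refine ⟨j, ?_⟩
        have := congrArg Subtype.val hj
        simp only [Subgroup.coe_mul, SubgroupClass.coe_zpow, Subgroup.coe_inv] at this hi ⊢
        rw [this, hi]; group
    have habel : ∀ a ∈ (R : Subgroup N), ∀ b ∈ (R : Subgroup N), a * b = b * a := by
      by_contra hna
      set C : Subgroup (R : Subgroup N) := Subgroup.center _ with hC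
      have hCne : C ≠ ⊤ := fun h => hna fun a ha b hb =>
        congrArg Subtype.val (Subgroup.mem_center_iff.1 (h ▸ Subgroup.mem_top
          (⟨b, hb⟩ : (R : Subgroup N))) ⟨a, ha⟩)
      have hQp : IsPGroup q ((R : Subgroup N) ⧸ C) := R.2.to_quotient C
      have : Nontrivial ((R : Subgroup N) ⧸ C) := QuotientGroup.nontrivial_iff.2 hCne
      obtain ⟨z, hz⟩ := (Subgroup.nontrivial_iff_ne_bot _).1 hQp.center_nontrivial
        |> (fun h => Subgroup.ne_bot_iff_exists_ne_one.1 h)
      obtain ⟨g, hg⟩ := QuotientGroup.mk_surjective (z : (R : Subgroup N) ⧸ C)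
      let A' : Subgroup N := (C ⊔ Subgroup.zpowers g).map (R : Subgroup N).subtype
      have hA'R : A' ≤ (R : Subgroup N) := Subgroup.map_subtype_le _
      have hA'n : ∀ a : (R : Subgroup N), ∀ w ∈ C ⊔ Subgroup.zpowers g,
          a * w * a⁻¹ ∈ C ⊔ Subgroup.zpowers g := by
        intro a w hw
        have hcomm : ((a * w * a⁻¹ * w⁻¹ : (R : Subgroup N)) : (R : Subgroup N) ⧸ C) = 1 := by
          obtain ⟨c, hc, d, ⟨i, rfl⟩, rfl⟩ := Subgroup.mem_sup_of_normal_left.1 hw
          have hg' := Subgroup.mem_center_iff.1 z.2 (a : (R : Subgroup N) ⧸ C)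
          rw [← hg] at hg'
          have hc1 : ((c : (R : Subgroup N)) : (R : Subgroup N) ⧸ C) = 1 :=
            (QuotientGroup.eq_one_iff c).2 hc
          simp only [QuotientGroup.mk_mul, QuotientGroup.mk_inv, QuotientGroup.mk_zpow, hc1, one_mul]
          rw [mul_inv_eq_one, mul_inv_eq_iff_eq_mul]
          exact (show Commute (a : (R : Subgroup N) ⧸ C) g from hg').zpow_right i
        have := (C ⊔ Subgroup.zpowers g).mul_mem
          (Subgroup.mem_sup_left ((QuotientGroup.eq_one_iff _).1 hcomm)) hw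
        simpa using this
      have hA'c : IsMulCommutative A' := by
        have hcm : ∀ w ∈ C ⊔ Subgroup.zpowers g, ∀ v ∈ C ⊔ Subgroup.zpowers g, w * v = v * w := by
          intro w hw v hv
          obtain ⟨c, hc, _, ⟨i, rfl⟩, rfl⟩ := Subgroup.mem_sup_of_normal_left.1 hw
          obtain ⟨c', hc', _, ⟨j, rfl⟩, rfl⟩ := Subgroup.mem_sup_of_normal_left.1 hv
          have e1 : ∀ y, Commute y c := fun y => Subgroup.mem_center_iff.1 hc y
          have e2 : ∀ y, Commute y c' := fun y => Subgroup.mem_center_iff.1 hc' y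
          exact (((e2 c).mul_right ((e1 _).symm)).mul_left
            ((e2 _).mul_right ((Commute.refl g).zpow_zpow i j))).eq
        exact ⟨⟨by rintro ⟨_, w, hw, rfl⟩ ⟨_, v, hv, rfl⟩
                   exact Subtype.ext (show ((w * v : (R : Subgroup N)) : N) = ((v * w : (R : Subgroup N)) : N) from congrArg Subtype.val (hcm w hw v hv))⟩⟩
      obtain ⟨⟨_, w, hw, rfl⟩, hgen⟩ := (hcyc A' hA'R hA'c).exists_generator
      have hwC : w ∈ C := Subgroup.mem_center_iff.2 fun a => Subtype.ext (hnormC _ _ fun v => by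
        constructor
        · rintro ⟨i, rfl⟩
          obtain ⟨j, hj⟩ := hgen ⟨_, _, hA'n a (w ^ i) (zpow_mem hw i), rfl⟩
          refine ⟨j, ?_⟩
          simpa using congrArg Subtype.val hj
        · rintro ⟨i, hi⟩
          obtain ⟨j, hj⟩ := hgen ⟨_, _, hA'n a⁻¹ (w ^ i) (zpow_mem hw i), rfl⟩
          refine ⟨j, ?_⟩
          have := congrArg Subtype.val hj
          simp only [Subgroup.coe_subtype, Subgroup.coe_mul, SubgroupClass.coe_zpow,
            Subgroup.coe_inv] at this hi ⊢
          rw [this, hi]; group)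
      have hgC : g ∈ C := by
        obtain ⟨j, hj⟩ := hgen ⟨_, g, Subgroup.mem_sup_right (Subgroup.mem_zpowers g), rfl⟩
        have hgw : g = w ^ j := Subtype.ext (by simpa using (congrArg Subtype.val hj).symm)
        rw [hgw]; exact zpow_mem hwC j
      exact hz (Subtype.ext (by rw [← hg, OneMemClass.coe_one]; exact (QuotientGroup.eq_one_iff g).2 hgC))
    have hRcyc : IsCyclic (R : Subgroup N) :=
      hcyc _ le_rfl ⟨⟨fun a b => Subtype.ext (habel a a.2 b b.2)⟩⟩
    have hNR : Subgroup.normalizer ((R : Subgroup N) : Set N) ≤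
        Subgroup.centralizer ((R : Subgroup N) : Set N) := by
      intro t ht
      obtain ⟨⟨r, hr⟩, hgen⟩ := hRcyc.exists_generator
      have hzr : Subgroup.zpowers r = (R : Subgroup N) := by
        refine le_antisymm (Subgroup.zpowers_le.2 hr) fun w hw => ?_
        obtain ⟨i, hi⟩ := hgen ⟨w, hw⟩
        exact ⟨i, by simpa using congrArg Subtype.val hi⟩
      refine Subgroup.mem_centralizer_iff.2 fun w hw => ?_
      obtain ⟨i, rfl⟩ := (hzr ▸ hw : w ∈ Subgroup.zpowers r)
      exact ((show Commute t r from hnormC r t (fun v => by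
        rw [hzr]; exact Subgroup.mem_normalizer_iff.1 ht v)).zpow_right i).symm.eq
    have hle : Mg ≤ (MonoidHom.transferSylow R hNR).ker := by
      refine (Subgroup.closure_le _).2 fun g ⟨n, hn⟩ => ?_
      rw [SetLike.mem_coe, MonoidHom.mem_ker, ← orderOf_eq_one_iff]
      obtain ⟨m, hm⟩ := IsPGroup.iff_orderOf.1 R.2 (MonoidHom.transferSylow R hNR g)
      have h1 := orderOf_map_dvd (MonoidHom.transferSylow R hNR) g
      rw [hn, hm] at h1
      rw [hm]
      exact Nat.Coprime.eq_one_of_dvd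
        (Nat.Coprime.pow m n ((Nat.coprime_primes hq Fact.out).2 hqp)) h1
    exact MonoidHom.not_dvd_card_ker_transferSylow R hNR
      (hqd.trans (Subgroup.card_dvd_of_le hle))
  obtain ⟨S, hS⟩ := (hMg.map N.subtype).exists_le_sylow
  have hbig : ∀ A B : Sylow p T, A ≠ B → (A : Subgroup T) ⊓ B = D → ∀ S : Sylow p T,
      Mg.map N.subtype ≤ S → S = A := by
    intro A B hAB hDD S hS
    by_contra hSA
    have := A.2.isNilpotent
    have hlt : D.subgroupOf A < ⊤ := by
      refine lt_top_iff_ne_top.2 fun h => hAB ?_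
      have hAD : (A : Subgroup T) ≤ D := Subgroup.subgroupOf_eq_top.1 h
      exact Sylow.ext ((A.3 B.2 ((hAD.trans hDD.ge).trans inf_le_right)).symm)
    obtain ⟨n, hn, hnD⟩ := SetLike.exists_of_lt (Group.normalizerCondition_of_isNilpotent _ hlt)
    have hnN : (n : T) ∈ N := by
      refine Subgroup.mem_normalizer_iff.2 fun w => ⟨fun hw => ?_, fun hw => ?_⟩
      · exact (Subgroup.mem_normalizer_iff.1 hn ⟨w, (hDD.ge hw).1⟩).1 hw
      · have hwA : w ∈ (A : Subgroup T) := by
          have := (A : Subgroup T).mul_mem ((A : Subgroup T).mul_mem ((A : Subgroup T).inv_mem n.2)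
            (hDD.ge hw).1) n.2
          simpa [mul_assoc] using this
        exact (Subgroup.mem_normalizer_iff.1 hn ⟨w, hwA⟩).2 hw
    have hgen : ∀ g : T, g ∈ (A : Subgroup T) → ∀ hg : g ∈ N, g ∈ (S : Subgroup T) := fun g hgA hg => by
      refine hS ⟨⟨g, hg⟩, Subgroup.subset_closure ?_, rfl⟩
      obtain ⟨j, hj⟩ := IsPGroup.iff_orderOf.1 A.2 ⟨g, hgA⟩
      exact ⟨j, by rw [Subgroup.orderOf_mk] at hj ⊢; exact hj⟩
    have hDlt : D < (A : Subgroup T) ⊓ S := lt_of_le_of_ne
      (fun d hd => ⟨(hDD.ge hd).1, hgen d (hDD.ge hd).1 (Subgroup.le_normalizer hd)⟩)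
      fun h => hnD (Subgroup.mem_subgroupOf.2 (h.ge ⟨n.2, hgen n n.2 hnN⟩))
    have hcard := hmax ⟨(A, S), fun h => hSA h.symm, fun h => hD1 (le_bot_iff.1 (h ▸ hDlt.le))⟩
    have h2 : Nat.card ((A : Subgroup T) ⊓ S : Subgroup T) ≤ Nat.card D := hcard
    exact hDlt.ne (Subgroup.eq_of_le_of_card_ge hDlt.le h2)
  have e1 := hbig A B hAB rfl S hS
  have e2 := hbig B A hAB.symm (inf_comm _ _) S hS
  exact hAB (e1.symm.trans e2)

omit [Fact p.Prime] in
/-- The conclusion. -/
theorem false_of_maxAction : False := by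
  obtain ⟨a, ha⟩ := exists_ne (1 : T)
  have hp : (Nat.card T).minFac.Prime := Nat.minFac_prime Finite.one_lt_card.ne'
  have := Fact.mk hp
  obtain ⟨x, hx⟩ := exists_prime_orderOf_dvd_card' (G := T) _ (Nat.minFac_dvd (Nat.card T))
  have hx1 : x ≠ 1 := fun h => hp.ne_one (by rw [← hx, h, orderOf_one])
  obtain ⟨P, hP⟩ := centralizer_sylow hM hx1 (hx.trans (pow_one _).symm)
  have hab : ∀ u ∈ (P : Subgroup T), ∀ w ∈ (P : Subgroup T), u * w = w * u := by
    intro u hu w hw
    by_cases hu1 : u = 1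
    · simp [hu1]
    obtain ⟨n, hn⟩ := IsPGroup.iff_orderOf.1 P.2 ⟨u, hu⟩
    rw [Subgroup.orderOf_mk] at hn
    obtain ⟨Q, hQ⟩ := centralizer_sylow hM hu1 hn
    have hPQ : P = Q := sylow_ti hM P Q hu1 hu (hQ ▸ Subgroup.mem_centralizer_singleton_iff.2 rfl)
    exact (Subgroup.mem_centralizer_singleton_iff.1 (hQ ▸ hPQ ▸ hw)).symm
  refine no_central_sylow hM.nc P ?_ fun t ht => Subgroup.mem_centralizer_iff.2 fun w hw => ?_
  · intro h
    exact hx1 (Subgroup.mem_bot.1 (h ▸ hP ▸ Subgroup.mem_centralizer_singleton_iff.2 rfl))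
  · have : t ∈ (P : Subgroup T) := hP ▸ centralizer_self_norm hM hx1 (hP ▸ ht)
    exact hab w hw t this

end Cfsg.Agent.ExtremelyPrimitive
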