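import Cfsg.Agent.Lib.ExtremelyPrimitive.Core
import Cfsg.Agent.Lib.Recog.CharSimple

/-!
# Extremely primitive groups are affine or almost simple
-/

set_option autoImplicit false

namespace Cfsg.Agent.ExtremelyPrimitive

open MulAction

/-- The maximality property of stabilisers of a primitive action on every orbit. -/
theorem stab_max {H Ω : Type*} [Group H] [MulAction H Ω] (δ : Ω)
    (hp : IsPreprimitive H (orbit H δ)) (L : Subgroup H) (hL : stabilizer H δ ≤ L) :
    L = stabilizer H δ ∨ L = ⊤ := by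
  have hs : stabilizer H (⟨δ, mem_orbit_self δ⟩ : orbit H δ) = stabilizer H δ := by
    ext h
    simp only [mem_stabilizer_iff, Subtype.ext_iff, orbit.coe_smul]
  rcases subsingleton_or_nontrivial (orbit H δ) with hsub | hnt
  · refine Or.inr (eq_top_iff.2 fun h _ => hL (mem_stabilizer_iff.2 ?_))
    exact congrArg Subtype.val (Subsingleton.elim (h • (⟨δ, mem_orbit_self δ⟩ : orbit H δ)) ⟨δ, mem_orbit_self δ⟩)
  · have hc := (isCoatom_stabilizer_iff_preprimitive H (⟨δ, mem_orbit_self δ⟩ : orbit H δ)).2 hp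
    rw [hs] at hc
    exact hc.le_iff.1 hL |>.symm

variable {G : Type*} [Group G] {Ω : Type*} [MulAction G Ω]

/-- Conjugates of a subgroup. -/
abbrev conjSub (g : G) (S : Subgroup G) : Subgroup G := S.map (MulAut.conj g).toMonoidHom

theorem mem_conjSub {g : G} {S : Subgroup G} {x : G} : x ∈ conjSub g S ↔ g⁻¹ * x * g ∈ S := by
  constructor
  · rintro ⟨s, hs, rfl⟩
    simpa [mul_assoc] using hs
  · intro h
    exact ⟨_, h, by simp [mul_assoc]⟩

theorem conjSub_mul (g g' : G) (S : Subgroup G) : conjSub (g * g') S = conjSub g (conjSub g' S) := by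
  ext x
  simp only [mem_conjSub, mul_inv_rev, mul_assoc]

theorem conjSub_one (S : Subgroup G) : conjSub (1 : G) S = S := by
  ext x; simp [mem_conjSub]

/-- A regular simple subgroup `S` with at most one other commuting conjugate under the point
stabiliser, whose point stabiliser induces all inner automorphisms: impossible. -/
theorem no_regular_case [Finite G] (a : Ω) (S : Subgroup G) [IsSimpleGroup S]
    (hnc : ¬ ∀ x ∈ S, ∀ y ∈ S, x * y = y * x)
    (hep : ∀ δ : Ω, IsPreprimitive (stabilizer G a) (orbit (stabilizer G a) δ))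
    (hreg : ∀ ω : Ω, ∃! s : S, (s : G) • a = ω)
    (hconj : ∀ h ∈ stabilizer G a, conjSub h S = S ∨ ∀ x ∈ conjSub h S, ∀ s ∈ S, x * s = s * x)
    (hinn : ∀ t ∈ S, ∃ t' : G, (∀ s ∈ S, s * t' = t' * s) ∧ t * t' ∈ stabilizer G a) : False := by
  classical
  let e : S → Ω := fun s => (s : G) • a
  have he : Function.Bijective e :=
    ⟨fun x y h => (hreg (e y)).unique h rfl, fun ω => (hreg ω).exists⟩
  let E := Equiv.ofBijective e he
  letI : MulAction (stabilizer G a) S :=
    { smul := fun h x => E.symm ((h : G) • E x)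
      one_smul := fun x => by
        show E.symm ((((1 : stabilizer G a)) : G) • E x) = x
        rw [OneMemClass.coe_one, one_smul, Equiv.symm_apply_apply]
      mul_smul := fun h k x => by
        show E.symm (((h * k : stabilizer G a) : G) • E x) =
          E.symm ((h : G) • E (E.symm ((k : G) • E x)))
        rw [Equiv.apply_symm_apply, Subgroup.coe_mul, mul_smul] }
  have hsmul : ∀ (h : stabilizer G a) (x : S), ((h • x : S) : G) • a = ((h : G) * x * (h : G)⁻¹) • a := by
    intro h x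
    show e (E.symm ((h : G) • E x)) = _
    rw [show e (E.symm ((h : G) • E x)) = (h : G) • E x from E.apply_symm_apply _]
    show (h : G) • (x : G) • a = _
    rw [mul_smul, mul_smul, inv_smul_eq_iff.2 (mem_stabilizer_iff.1 h.2).symm]
  refine false_of_maxAction (H := stabilizer G a) (T := S) ⟨?_, ?_, ?_, ?_⟩
  · exact fun h => hnc fun x hx y hy => congrArg Subtype.val (h ⟨x, hx⟩ ⟨y, hy⟩)
  · intro h
    rcases hconj h h.2 with hS | hS
    · left
      intro x y
      have hval : ∀ z : S, ((h • z : S) : G) = (h : G) * z * (h : G)⁻¹ := fun z => by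
        have hm : (h : G) * z * (h : G)⁻¹ ∈ S :=
          hS.le (mem_conjSub.2 (by simp [mul_assoc]))
        exact congrArg Subtype.val ((hreg _).unique (y₁ := h • z) (y₂ := ⟨_, hm⟩) (hsmul h z) rfl)
      exact Subtype.ext (by rw [hval, Subgroup.coe_mul, Subgroup.coe_mul, hval, hval]; group)
    · right
      intro x y
      refine (hreg _).unique (y₁ := h • (x * y)) (y₂ := h • y * h • x) (hsmul h _) ?_
      have hx : (h : G) * x * (h : G)⁻¹ ∈ conjSub (h : G) S := mem_conjSub.2 (by simp [mul_assoc])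
      rw [Subgroup.coe_mul, mul_smul, hsmul, ← mul_smul, ← hS _ hx _ (h • y).2, mul_smul, hsmul,
        ← mul_smul, Subgroup.coe_mul]
      congr 1
      group
  · intro t
    obtain ⟨t', ht', htt⟩ := hinn t t.2
    refine ⟨⟨_, htt⟩, fun x => (hreg _).unique (y₁ := _) (y₂ := t * x * t⁻¹) (hsmul _ x) ?_⟩
    have hm : ((t : G) * t') * x * ((t : G) * t')⁻¹ = (t : G) * x * (t : G)⁻¹ := by
      calc ((t : G) * t') * x * ((t : G) * t')⁻¹ = (t : G) * (t' * x) * t'⁻¹ * (t : G)⁻¹ := by group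
        _ = (t : G) * (x * t') * t'⁻¹ * (t : G)⁻¹ := by rw [ht' x x.2]
        _ = _ := by group
    show ((t * x * t⁻¹ : S) : G) • a = _
    rw [hm]; simp
  · intro x _ L hL
    have hs : stabilizer (stabilizer G a) x = stabilizer (stabilizer G a) (E x) := by
      ext h
      simp only [mem_stabilizer_iff]
      exact Equiv.symm_apply_eq E
    rw [hs] at hL ⊢
    exact stab_max _ (hep _) L hL

section structureLemmas

variable [Finite G] [FaithfulSMul G Ω] (N : Subgroup G) [hN : N.Normal] (a : Ω)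

/-- A subgroup normalised by a transitive group and fixing a point is trivial. -/
theorem eq_bot_of_fix [IsPretransitive N Ω] {K : Subgroup G}
    (hK : ∀ n ∈ N, ∀ k ∈ K, n * k * n⁻¹ ∈ K) (hfix : ∀ k ∈ K, k • a = a) : K = ⊥ := by
  refine le_bot_iff.1 fun k hk => eq_of_smul_eq_smul (α := Ω) fun ω => ?_
  obtain ⟨y, rfl⟩ := exists_smul_eq N a ω
  rw [one_smul]
  have := hfix _ (hK _ (N.inv_mem y.2) k hk)
  rwa [inv_inv, mul_smul, mul_smul, inv_smul_eq_iff] at this

/-- The structure when a minimal normal subgroup `N` is not simple. -/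
theorem non_simple [IsPretransitive N Ω]
    (hep : ∀ δ : Ω, IsPreprimitive (stabilizer G a) (orbit (stabilizer G a) δ))
    (hcore : ∀ n : G, (∀ h ∈ stabilizer G a, h * n = n * h) → n ∈ N → n • a = a)
    (hmin : ∀ K : Subgroup G, K.Normal → K ≤ N → K ≠ ⊥ → K = N)
    (hnc : ¬ ∀ x ∈ N, ∀ y ∈ N, x * y = y * x)
    (S : Subgroup G) (hS1 : S ≠ ⊥) (hSN : S ≤ N) (hSn : ∀ n ∈ N, ∀ k ∈ S, n * k * n⁻¹ ∈ S)
    (hSmin : ∀ K : Subgroup G, K ≤ S → K ≠ ⊥ → (∀ n ∈ N, ∀ k ∈ K, n * k * n⁻¹ ∈ K) → K = S)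
    (hne : S ≠ N) : False := by
  classical
  let H := stabilizer G a
  let M := N ⊓ H
  have hGNH : ∀ g : G, ∃ n ∈ N, ∃ h ∈ H, g = n * h := fun g => by
    obtain ⟨y, hy⟩ := exists_smul_eq N a (g • a)
    exact ⟨y, y.2, (y : G)⁻¹ * g, mem_stabilizer_iff.2 (by rw [mul_smul, inv_smul_eq_iff]; exact hy.symm),
      by group⟩
  -- the centraliser part
  let K := N ⊓ Subgroup.centralizer (S : Set G)
  have hKn : ∀ n ∈ N, ∀ k ∈ K, n * k * n⁻¹ ∈ K := by
    rintro n hn k ⟨hk, hkc⟩
    refine ⟨N.mul_mem (N.mul_mem hn hk) (N.inv_mem hn), Subgroup.mem_centralizer_iff.2 fun s hs => ?_⟩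
    have := Subgroup.mem_centralizer_iff.1 hkc (n⁻¹ * s * n)
      (by simpa using hSn n⁻¹ (N.inv_mem hn) s hs)
    calc s * (n * k * n⁻¹) = n * ((n⁻¹ * s * n) * k) * n⁻¹ := by group
      _ = n * (k * (n⁻¹ * s * n)) * n⁻¹ := by rw [this]
      _ = n * k * n⁻¹ * s := by group
  have hNfix : ∀ n ∈ N, conjSub n S = S := fun n hn => by
    ext x
    rw [mem_conjSub]
    exact ⟨fun hx => by simpa [mul_assoc] using hSn n hn _ hx,
      fun hx => by simpa using hSn n⁻¹ (N.inv_mem hn) x hx⟩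
  have hconjH : ∀ g : G, ∃ h ∈ H, conjSub g S = conjSub h S := fun g => by
    obtain ⟨n, hn, h, hh, rfl⟩ := hGNH g
    refine ⟨h, hh, ?_⟩
    have hn' : h⁻¹ * n * h ∈ N := by simpa using hN.conj_mem n hn h⁻¹
    rw [show n * h = h * (h⁻¹ * n * h) by group, conjSub_mul, hNfix _ hn']
  have hconj : ∀ g : G, conjSub g S = S ∨ S ⊓ conjSub g S = ⊥ ∧ conjSub g S ≤ K := by
    intro g
    have hS'N : conjSub g S ≤ N := fun x hx => by
      simpa [mul_assoc] using hN.conj_mem _ (hSN (mem_conjSub.1 hx)) g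
    have hS'n : ∀ n ∈ N, ∀ k ∈ conjSub g S, n * k * n⁻¹ ∈ conjSub g S := by
      intro n hn k hk
      rw [mem_conjSub] at hk ⊢
      have := hSn (g⁻¹ * n * g) (by simpa using hN.conj_mem n hn g⁻¹) _ hk
      simpa [mul_assoc] using this
    by_cases hb : S ⊓ conjSub g S = ⊥
    · refine Or.inr ⟨hb, le_inf hS'N fun x hx => Subgroup.mem_centralizer_iff.2 fun s hs => ?_⟩
      exact CharSimple.commute_of_disjoint (fun b hb' a' ha => hSn b (hS'N hb') a' ha)
        (fun a' ha b hb' => hS'n a' (hSN ha) b hb') hb s hs x hx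
    · left
      have hle : S ≤ conjSub g S := inf_eq_left.1 (hSmin _ inf_le_left hb fun n hn k hk =>
        ⟨hSn n hn k hk.1, hS'n n hn k hk.2⟩)
      exact (Subgroup.eq_of_le_of_card_ge hle
        (le_of_eq (Nat.card_congr (S.equivMapOfInjective _ (MulAut.conj g).injective).toEquiv).symm)).symm
  let P : Subgroup G :=
    { carrier := {n | ∃ s ∈ S, ∃ k ∈ K, n = s * k}
      one_mem' := ⟨1, S.one_mem, 1, K.one_mem, by group⟩
      mul_mem' := by
        rintro - - ⟨s, hs, k, hk, rfl⟩ ⟨s', hs', k', hk', rfl⟩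
        refine ⟨s * s', S.mul_mem hs hs', k * k', K.mul_mem hk hk', ?_⟩
        rw [mul_assoc s k, ← mul_assoc k s', ← Subgroup.mem_centralizer_iff.1 hk.2 s' hs']
        group
      inv_mem' := by
        rintro - ⟨s, hs, k, hk, rfl⟩
        refine ⟨s⁻¹, S.inv_mem hs, k⁻¹, K.inv_mem hk, ?_⟩
        rw [mul_inv_rev, Subgroup.mem_centralizer_iff.1 (K.inv_mem hk).2 s⁻¹ (S.inv_mem hs)] }
  -- a condition holding on all conjugates of `S` holds on `N`
  have hgen : ∀ Q : Subgroup G, (∀ g : G, conjSub g S ≤ Q) → N ≤ Q := by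
    intro Q hQ
    have hcl : Subgroup.normalClosure (S : Set G) = N := by
      refine hmin _ inferInstance (Subgroup.normalClosure_le_normal hSN) fun h => hS1 ?_
      exact le_bot_iff.1 fun x hx => by rw [← h]; exact Subgroup.subset_normalClosure hx
    rw [← hcl]
    refine (Subgroup.closure_le _).2 fun x hx => ?_
    obtain ⟨s, hs, hc⟩ := Group.mem_conjugatesOfSet_iff.1 hx
    obtain ⟨g, rfl⟩ := isConj_iff.1 hc
    exact hQ g (mem_conjSub.2 (by simpa [mul_assoc] using hs))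
  have hNP : ∀ n ∈ N, ∃ s ∈ S, ∃ k ∈ K, n = s * k := fun n hn => hgen P (fun g x hx => by
    rcases hconj g with h | ⟨-, h⟩
    · exact ⟨x, h.le hx, 1, K.one_mem, by group⟩
    · exact ⟨1, S.one_mem, x, h hx, by group⟩) hn
  have hSnc : ¬ ∀ x ∈ S, ∀ y ∈ S, x * y = y * x := by
    intro hab
    refine hnc fun x hx y hy => ?_
    have hSZ : ∀ s ∈ S, ∀ n ∈ N, s * n = n * s := by
      intro s hs n hn
      obtain ⟨s', hs', k, hk, rfl⟩ := hNP n hn
      rw [← mul_assoc, hab s hs s' hs', mul_assoc, Subgroup.mem_centralizer_iff.1 hk.2 s hs,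
        mul_assoc]
    have hZ : N ⊓ Subgroup.centralizer (N : Set G) = N := by
      refine hmin _ inferInstance inf_le_left fun h => hS1 (le_bot_iff.1 fun s hs => ?_)
      exact h.le ⟨hSN hs, Subgroup.mem_centralizer_iff.2 fun n hn => (hSZ s hs n hn).symm⟩
    exact Subgroup.mem_centralizer_iff.1 (hZ.ge hy).2 x hx
  -- simplicity of `S`
  have hsimp : ∀ X : Subgroup G, X ≤ S → (∀ s ∈ S, ∀ x ∈ X, s * x * s⁻¹ ∈ X) → X = ⊥ ∨ X = S := by
    intro X hX hXn
    refine or_iff_not_imp_left.2 fun h => hSmin X hX h fun n hn x hx => ?_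
    obtain ⟨s, hs, k, hk, rfl⟩ := hNP n hn
    have hkx : k * x * k⁻¹ = x := by
      rw [← Subgroup.mem_centralizer_iff.1 hk.2 x (hX hx)]; group
    rw [show s * k * x * (s * k)⁻¹ = s * (k * x * k⁻¹) * s⁻¹ by group, hkx]
    exact hXn s hs x hx
  have hSK : ∀ s ∈ S, s ∈ K → s = 1 := by
    intro s hs hsK
    rcases hsimp (S ⊓ K) inf_le_left (fun t ht x hx => ⟨hSn t (hSN ht) x hx.1, hKn t (hSN ht) x hx.2⟩)
      with h | h
    · exact Subgroup.mem_bot.1 (h.le ⟨hs, hsK⟩)
    · exact absurd (fun x hx y hy => Subgroup.mem_centralizer_iff.1 (h.ge hy).2.2 x hx) hSnc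
  -- conjugation by the stabiliser preserves `M`
  have hMH : ∀ h ∈ H, ∀ m ∈ M, h * m * h⁻¹ ∈ M := fun h hh m hm =>
    ⟨hN.conj_mem m hm.1 h, H.mul_mem (H.mul_mem hh hm.2) (H.inv_mem hh)⟩
  -- if all elements of `S` normalise `M` then `M` is trivial
  have hMbot : (∀ x ∈ S, ∀ m ∈ M, x⁻¹ * m * x ∈ M) → M = ⊥ := by
    intro hx
    have hQ : ∀ n ∈ N, ∀ m ∈ M, n⁻¹ * m * n ∈ M := by
      let Q : Subgroup G :=
        { carrier := {n | ∀ m, m ∈ M ↔ n⁻¹ * m * n ∈ M}
          one_mem' := fun m => by simp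
          mul_mem' := fun {u v} hu hv m => by
            rw [hu m, hv]; simp [mul_assoc]
          inv_mem' := fun {u} hu m => by
            rw [hu (u * m * u⁻¹ : G) |>.symm |> (fun h => (show m ∈ M ↔ u * m * u⁻¹ ∈ M by simpa [mul_assoc] using h))]
            simp }
      refine fun n hn m hm => (hgen Q (fun g y hy m => ?_) hn m).1 hm
      obtain ⟨h, hh, hgh⟩ := hconjH g
      rw [hgh, mem_conjSub] at hy
      have key : ∀ z ∈ S, ∀ m, m ∈ M → (h * z * h⁻¹)⁻¹ * m * (h * z * h⁻¹) ∈ M := fun z hz m hm => by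
        have h1 := hMH h hh _ (hx z hz _ (hMH h⁻¹ (H.inv_mem hh) m hm))
        have he : (h * z * h⁻¹)⁻¹ * m * (h * z * h⁻¹) = h * (z⁻¹ * (h⁻¹ * m * h⁻¹⁻¹) * z) * h⁻¹ := by
          group
        rw [he]; exact h1
      refine ⟨fun hm => ?_, fun hm => ?_⟩
      · have := key _ hy m hm
        simpa [mul_assoc] using this
      · have := key _ (S.inv_mem hy) _ hm
        simpa [mul_assoc] using this
    refine eq_bot_of_fix N a (fun n hn m hm => ?_) fun m hm => hm.2
    simpa using hQ n⁻¹ (N.inv_mem hn) m hm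
  -- the dichotomy for a stabiliser of `x • a`
  have hfix : ∀ x ∈ S, ∀ L : Subgroup G, (∀ m ∈ M, m ∈ L) → (∃ h ∈ H, h ∉ L) →
      (∀ h ∈ H, h • x • a = x • a → h ∈ L) →
      (∀ l ∈ L, l ∈ H → l • x • a = x • a) ∧ ∀ m ∈ M, x⁻¹ * m * x ∈ M := by
    intro x hx L hML hLtop hst
    have hle : stabilizer H (x • a) ≤ L.subgroupOf H := fun h hh => hst h h.2 hh
    have hLne : L.subgroupOf H ≠ ⊤ := fun h => by
      obtain ⟨g, hg, hgL⟩ := hLtop
      exact hgL (Subgroup.subgroupOf_eq_top.1 h hg)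
    have heq := (stab_max _ (hep (x • a)) _ hle).resolve_right hLne
    have hall : ∀ l ∈ L, l ∈ H → l • x • a = x • a := fun l hl hlH =>
      (heq.le (show (⟨l, hlH⟩ : H) ∈ L.subgroupOf H from hl) : (⟨l, hlH⟩ : H) ∈ stabilizer H (x • a))
    refine ⟨hall, fun m hm => ⟨?_, ?_⟩⟩
    · simpa using hN.conj_mem m hm.1 x⁻¹
    · show (x⁻¹ * m * x) • a = a
      rw [mul_smul, mul_smul, inv_smul_eq_iff]
      exact hall m (hML m hm) hm.2
  let L : Subgroup G :=
    { carrier := {g | conjSub g S = S}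
      one_mem' := conjSub_one S
      mul_mem' := fun {u v} (hu : conjSub u S = S) (hv : conjSub v S = S) => by
        show conjSub (u * v) S = S
        rw [conjSub_mul, hv, hu]
      inv_mem' := fun {u} (hu : conjSub u S = S) => by
        show conjSub u⁻¹ S = S
        conv_lhs => rw [← hu]
        rw [← conjSub_mul, inv_mul_cancel, conjSub_one] }
  have hMLm : ∀ m ∈ M, m ∈ L := fun m hm => hNfix m hm.1
  have hLtop : ∃ h ∈ H, h ∉ L := by
    by_contra hall
    simp only [not_exists, not_and, not_not] at hall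
    refine hne (hmin S ⟨fun s hs g => ?_⟩ hSN hS1)
    obtain ⟨h, hh, hgh⟩ := hconjH g
    exact (hgh.trans (hall h hh)).le (mem_conjSub.2 (by simpa [mul_assoc] using hs))
  -- projections of `M`
  let R : Subgroup G :=
    { carrier := {s | s ∈ S ∧ ∃ k ∈ K, s * k ∈ M}
      one_mem' := ⟨S.one_mem, 1, K.one_mem, by rw [one_mul]; exact M.one_mem⟩
      mul_mem' := by
        rintro u v ⟨hu, k, hk, huk⟩ ⟨hv, k', hk', hvk⟩
        refine ⟨S.mul_mem hu hv, k * k', K.mul_mem hk hk', ?_⟩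
        have := M.mul_mem huk hvk
        rw [mul_assoc u k, ← mul_assoc k v, ← Subgroup.mem_centralizer_iff.1 hk.2 v hv] at this
        simpa [mul_assoc] using this
      inv_mem' := by
        rintro u ⟨hu, k, hk, huk⟩
        refine ⟨S.inv_mem hu, k⁻¹, K.inv_mem hk, ?_⟩
        have := M.inv_mem huk
        rwa [mul_inv_rev, ← Subgroup.mem_centralizer_iff.1 (K.inv_mem hk).2 u⁻¹ (S.inv_mem hu)] at this }
  have hmove : ∀ x ∈ S, ∀ h ∈ H, h • x • a = x • a → x⁻¹ * (h * x * h⁻¹) ∈ M := by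
    intro x hx h hh hfx
    refine ⟨N.mul_mem (N.inv_mem (hSN hx)) (hN.conj_mem x (hSN hx) h), ?_⟩
    show (x⁻¹ * (h * x * h⁻¹)) • a = a
    rw [mul_smul, mul_smul, mul_smul, inv_smul_eq_iff.2 (mem_stabilizer_iff.1 hh).symm, inv_smul_eq_iff]
    exact hfx
  have hR : ∀ x ∈ S, x ∉ R →
      (∀ l ∈ L, l ∈ H → l • x • a = x • a) ∧ ∀ m ∈ M, x⁻¹ * m * x ∈ M := by
    refine fun x hx hxR => hfix x hx L hMLm hLtop fun h hh hfx => ?_
    refine ((hconj h).resolve_right fun hK => hxR ?_ :)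
    have hx' : h * x * h⁻¹ ∈ K := hK.2 (mem_conjSub.2 (by simpa [mul_assoc] using hx))
    have hi : x⁻¹ ∈ R := ⟨S.inv_mem hx, _, hx', hmove x hx h hh hfx⟩
    simpa using R.inv_mem hi
  by_cases hRS : ∀ x ∈ S, x ∈ R
  swap
  · simp only [not_forall] at hRS
    obtain ⟨x₀, hx₀, hx₀R⟩ := hRS
    have hM0 : M = ⊥ := by
      refine hMbot fun x hx m hm => ?_
      by_cases hxR : x ∈ R
      · have h1 : x * x₀ ∉ R := fun h => hx₀R (by simpa using R.mul_mem (R.inv_mem hxR) h)
        have h2 := (hR (x * x₀) (S.mul_mem hx hx₀) h1).2 m hm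
        have h3 := (hR x₀⁻¹ (S.inv_mem hx₀) (fun h => hx₀R (by simpa using R.inv_mem h))).2 _ h2
        simpa [mul_assoc] using h3
      · exact (hR x hx hxR).2 m hm
    -- the regular case: a fixed element
    obtain ⟨x, hx, hx1⟩ : ∃ x ∈ S, x ≠ 1 := (Subgroup.ne_bot_iff_exists_ne_one.1 hS1).elim
      fun x hx => ⟨x, x.2, fun h => hx (Subtype.ext h)⟩
    have hxR : x ∉ R := by
      rintro ⟨-, k, hk, hxk⟩
      rw [hM0, Subgroup.mem_bot, mul_eq_one_iff_eq_inv] at hxk
      exact hx1 (hSK x hx (hxk ▸ K.inv_mem hk))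
    have hcen : ∀ l ∈ L, l ∈ H → l * x * l⁻¹ = x := by
      intro l hl hlH
      have := hmove x hx l hlH ((hR x hx hxR).1 l hl hlH)
      rw [hM0, Subgroup.mem_bot, inv_mul_eq_one] at this
      exact this.symm
    let O : Set G := {y | ∃ h ∈ H, y = h * x * h⁻¹}
    have hOc : ∀ y ∈ O, ∀ z ∈ O, y * z = z * y := by
      rintro - ⟨h, hh, rfl⟩ - ⟨k, hk, rfl⟩
      rcases hconj (h⁻¹ * k) with hS | hS
      · have := hcen _ hS (H.mul_mem (H.inv_mem hh) hk)
        have e : k * x * k⁻¹ = h * x * h⁻¹ := by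
          conv_rhs => rw [← this]
          group
        rw [e]
      · have h1 : h⁻¹ * k * x * (h⁻¹ * k)⁻¹ ∈ K := hS.2 (mem_conjSub.2 (by simpa [mul_assoc] using hx))
        have h2 := Subgroup.mem_centralizer_iff.1 h1.2 x hx
        calc h * x * h⁻¹ * (k * x * k⁻¹) = h * (x * (h⁻¹ * k * x * (h⁻¹ * k)⁻¹)) * h⁻¹ := by group
          _ = h * (h⁻¹ * k * x * (h⁻¹ * k)⁻¹ * x) * h⁻¹ := by rw [h2]
          _ = k * x * k⁻¹ * (h * x * h⁻¹) := by group
    let A : Subgroup G := Subgroup.closure O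
    have hAc : ∀ u ∈ A, ∀ v ∈ A, u * v = v * u := by
      have h1 : A ≤ Subgroup.centralizer O := (Subgroup.closure_le _).2 fun y hy =>
        Subgroup.mem_centralizer_iff.2 fun z hz => hOc z hz y hy
      have h2 : A ≤ Subgroup.centralizer (A : Set G) := (Subgroup.closure_le _).2 fun y hy =>
        Subgroup.mem_centralizer_iff.2 fun z hz => (Subgroup.mem_centralizer_iff.1 (h1 hz) y hy).symm
      exact fun u hu v hv => Subgroup.mem_centralizer_iff.1 (h2 hv) u hu
    letI : CommGroup A := { (inferInstance : Group A) with mul_comm := fun u v => Subtype.ext (hAc u u.2 v v.2) }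
    have := Fintype.ofFinite O
    let f : O → A := fun y => ⟨y, Subgroup.subset_closure y.2⟩
    let n : A := ∏ y : O, f y
    have hAN : A ≤ N := (Subgroup.closure_le _).2 (by
      rintro - ⟨h, hh, rfl⟩; exact hN.conj_mem x (hSN hx) h)
    have hnfix : ∀ h ∈ H, h * (n : G) = (n : G) * h := by
      intro h hh
      have hOh : ∀ y ∈ O, h * y * h⁻¹ ∈ O := by
        rintro - ⟨k, hk, rfl⟩; exact ⟨h * k, H.mul_mem hh hk, by group⟩
      have hA : ∀ u ∈ A, h * u * h⁻¹ ∈ A := by
        intro u hu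
        induction hu using Subgroup.closure_induction with
        | mem y hy => exact Subgroup.subset_closure (hOh y hy)
        | one => simpa using A.one_mem
        | mul y z _ _ hy hz => simpa [mul_assoc] using A.mul_mem hy hz
        | inv y _ hy => simpa [mul_assoc] using A.inv_mem hy
      let ψ : A →* A :=
        { toFun := fun u => ⟨h * u * h⁻¹, hA u u.2⟩
          map_one' := Subtype.ext (by simp)
          map_mul' := fun u v => Subtype.ext (by simp [mul_assoc]) }
      have hψ : ψ n = n := by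
        show ψ (∏ y, f y) = _
        rw [map_prod]
        let σ : O → O := fun y => ⟨h * y * h⁻¹, hOh y y.2⟩
        have hσ : Function.Injective σ := fun y z hyz => Subtype.ext (by
          simpa [σ] using congrArg Subtype.val hyz)
        exact Fintype.prod_bijective σ (Finite.injective_iff_bijective.1 hσ) _ _ fun y => rfl
      have := congrArg Subtype.val hψ
      exact mul_inv_eq_iff_eq_mul.1 this
    have hna : (n : G) • a = a := hcore n hnfix (hAN n.2)
    have hn1 : (n : G) = 1 := Subgroup.mem_bot.1 (hM0.le ⟨hAN n.2, hna⟩)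
    have hxO : x ∈ O := ⟨1, H.one_mem, by group⟩
    have hrest : ((∏ y ∈ Finset.univ.erase (⟨x, hxO⟩ : O), f y : A) : G) ∈ K := by
      refine Finset.prod_induction f (fun u : A => (u : G) ∈ K) (fun u v hu hv => ?_) ?_ ?_
      · rw [Subgroup.coe_mul]; exact K.mul_mem hu hv
      · exact K.one_mem
      · intro y hy
        obtain ⟨⟨-, h, hh, rfl⟩, hyx⟩ := y, (Finset.mem_erase.1 hy).1
        rcases hconj h with hS | hS
        · exact absurd (Subtype.ext (hcen h hS hh)) hyx
        · exact hS.2 (mem_conjSub.2 (by simpa [f, mul_assoc] using hx))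
    refine hx1 (hSK x hx ?_)
    have e := congrArg Subtype.val (Finset.mul_prod_erase Finset.univ f (Finset.mem_univ (⟨x, hxO⟩ : O)))
    rw [Subgroup.coe_mul, show ((∏ y, f y : A) : G) = 1 from hn1, mul_eq_one_iff_eq_inv] at e
    have : (f ⟨x, hxO⟩ : G) = x := rfl
    rw [← this, e]; exact K.inv_mem hrest
  -- diagonal case
  have hMS : ∀ s ∈ S, s ∈ M → s = 1 := by
    intro s hs hsM
    refine (hsimp (S ⊓ M) inf_le_left (fun t ht x hx => ?_)).elim (fun h => ?_) fun h => ?_
    rotate_left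
    · exact Subgroup.mem_bot.1 (h.le ⟨hs, hsM⟩)
    · refine absurd (eq_bot_of_fix N a hSn fun k hk => ?_) hS1
      exact (h.ge hk).2.2
    · refine ⟨hSn t (hSN ht) x hx.1, ?_⟩
      obtain ⟨-, k, hk, htk⟩ := hRS t ht
      have := M.mul_mem (M.mul_mem htk hx.2) (M.inv_mem htk)
      have hkx : k * x * k⁻¹ = x := by
        rw [← Subgroup.mem_centralizer_iff.1 hk.2 x hx.1]; group
      rwa [show t * k * x * (t * k)⁻¹ = t * (k * x * k⁻¹) * t⁻¹ by group, hkx] at this
  have hMne : M ≠ ⊥ := by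
    intro h
    obtain ⟨x, hx⟩ := Subgroup.ne_bot_iff_exists_ne_one.1 hS1
    obtain ⟨-, k, hk, hxk⟩ := hRS x x.2
    rw [h, Subgroup.mem_bot, mul_eq_one_iff_eq_inv] at hxk
    exact hx (Subtype.ext (hSK x x.2 (hxk ▸ K.inv_mem hk)))
  obtain ⟨x, hx, hx1, h₀, hh₀, hfx₀, hh₀L⟩ :
      ∃ x ∈ S, x ≠ 1 ∧ ∃ h ∈ H, h • x • a = x • a ∧ h ∉ L := by
    by_contra hcon
    simp only [not_exists, not_and, not_not] at hcon
    refine hMne (hMbot fun x hx m hm => ?_)
    by_cases hx1 : x = 1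
    · simpa [hx1] using hm
    exact (hfix x hx L hMLm hLtop fun h hh hf => hcon x hx hx1 h hh hf).2 m hm
  let Partner : Subgroup G → Subgroup G → Prop := fun A B =>
    A ⊓ B = ⊥ ∧ ∀ s ∈ A, ∃ t ∈ B, s * t ∈ M
  have hPh : ∀ h ∈ H, ∀ A B, Partner A B → Partner (conjSub h A) (conjSub h B) := by
    rintro h hh A B ⟨hd, hAB⟩
    refine ⟨le_bot_iff.1 fun y hy => ?_, fun y hy => ?_⟩
    · have := hd.le ⟨mem_conjSub.1 hy.1, mem_conjSub.1 hy.2⟩
      rw [Subgroup.mem_bot] at this ⊢
      calc y = h * (h⁻¹ * y * h) * h⁻¹ := by group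
        _ = 1 := by rw [this]; group
    · obtain ⟨t, ht, hst⟩ := hAB _ (mem_conjSub.1 hy)
      refine ⟨h * t * h⁻¹, mem_conjSub.2 (by simpa [mul_assoc] using ht), ?_⟩
      have := hMH h hh _ hst
      simpa [mul_assoc] using this
  -- a fixing element moving `S` produces a partner
  have hpart : ∀ y ∈ S, ∀ h ∈ H, y ≠ 1 → h • y • a = y • a → h ∉ L → Partner S (conjSub h S) := by
    intro y hy h hh hy1 hfy hhL
    have hK := (hconj h).resolve_left hhL
    refine ⟨hK.1, ?_⟩
    let X : Subgroup G :=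
      { carrier := {s | s ∈ S ∧ ∃ t ∈ conjSub h S, s * t ∈ M}
        one_mem' := ⟨S.one_mem, 1, one_mem _, by rw [one_mul]; exact M.one_mem⟩
        mul_mem' := by
          rintro u v ⟨hu, k, hk, huk⟩ ⟨hv, k', hk', hvk⟩
          refine ⟨S.mul_mem hu hv, k * k', mul_mem hk hk', ?_⟩
          have := M.mul_mem huk hvk
          rw [mul_assoc u k, ← mul_assoc k v, ← Subgroup.mem_centralizer_iff.1 (hK.2 hk).2 v hv] at this
          simpa [mul_assoc] using this
        inv_mem' := by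
          rintro u ⟨hu, k, hk, huk⟩
          refine ⟨S.inv_mem hu, k⁻¹, inv_mem hk, ?_⟩
          have := M.inv_mem huk
          rwa [mul_inv_rev, ← Subgroup.mem_centralizer_iff.1 (hK.2 (inv_mem hk)).2 u⁻¹ (S.inv_mem hu)] at this }
    refine (hsimp X (fun s hs => hs.1) (fun s hs z hz => ?_)).elim (fun hX => ?_) fun hX => ?_
    rotate_left
    · refine absurd (Subgroup.mem_bot.1 (hX.le ⟨S.inv_mem hy, h * y * h⁻¹,
        mem_conjSub.2 (by simpa [mul_assoc] using hy), hmove y hy h hh hfy⟩)) ?_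
      simpa using hy1
    · exact fun s hs => (hX.ge hs).2
    · obtain ⟨hz1, t, ht, hzt⟩ := hz
      obtain ⟨-, k, hk, hsk⟩ := hRS s hs
      refine ⟨hSn s (hSN hs) z hz1, (s * k) * t * (s * k)⁻¹, ?_, ?_⟩
      · rw [mem_conjSub] at ht ⊢
        have := hSn (h⁻¹ * (s * k) * h) (by simpa using hN.conj_mem _ hsk.1 h⁻¹) _ ht
        simpa [mul_assoc] using this
      · have := M.mul_mem (M.mul_mem hsk hzt) (M.inv_mem hsk)
        have hkz : k * z * k⁻¹ = z := by
          rw [← Subgroup.mem_centralizer_iff.1 hk.2 z hz1]; group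
        rwa [show s * k * (z * t) * (s * k)⁻¹ = s * (k * z * k⁻¹) * s⁻¹ * (s * k * t * (s * k)⁻¹) by
          group, hkz] at this
  set S' := conjSub h₀ S with hS'
  have hP0 : Partner S S' := hpart x hx h₀ hh₀ hx1 hfx₀ hh₀L
  have huniq : ∀ g g' : G, Partner S (conjSub g S) → Partner S (conjSub g' S) →
      conjSub g S = conjSub g' S := by
    intro g g' hg hg'
    rcases hconj (g⁻¹ * g') with hgg | hgg
    · rw [show g' = g * (g⁻¹ * g') by group, conjSub_mul, hgg]
    · exfalso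
      refine hSnc fun s₁ hs₁ s₂ hs₂ => ?_
      obtain ⟨t, ht, hst⟩ := hg.2 s₁ hs₁
      obtain ⟨u, hu, hsu⟩ := hg'.2 s₂ hs₂
      have htK : ∀ {g : G} {z : G}, Partner S (conjSub g S) → z ∈ conjSub g S → ∀ s ∈ S, s * z = z * s := by
        intro g z hP hz s hs
        rcases hconj g with h | h
        · have h0 := hP.1
          rw [h, inf_idem] at h0
          exact absurd h0 hS1
        · exact Subgroup.mem_centralizer_iff.1 (h.2 hz).2 s hs
      have e1 := htK hg ht s₂ hs₂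
      have e2 := htK hg' hu s₁ hs₁
      have e3 : t * u = u * t := by
        have h1 : g⁻¹ * u * g ∈ conjSub (g⁻¹ * g') S := by
          rw [conjSub_mul, mem_conjSub]; simpa [mul_assoc] using hu
        have h2 := Subgroup.mem_centralizer_iff.1 (hgg.2 h1).2 _ (mem_conjSub.1 ht)
        calc t * u = g * ((g⁻¹ * t * g) * (g⁻¹ * u * g)) * g⁻¹ := by group
          _ = g * ((g⁻¹ * u * g) * (g⁻¹ * t * g)) * g⁻¹ := by rw [h2]
          _ = u * t := by group
      have hm := M.mul_mem (M.mul_mem hst hsu) (M.inv_mem (M.mul_mem hsu hst))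
      have e : s₁ * t * (s₂ * u) * (s₂ * u * (s₁ * t))⁻¹ = s₁ * s₂ * (s₂ * s₁)⁻¹ := by
        rw [show s₁ * t * (s₂ * u) = s₁ * (t * s₂) * u by group, ← e1,
          show s₂ * u * (s₁ * t) = s₂ * (u * s₁) * t by group, ← e2,
          show s₁ * (s₂ * t) * u = s₁ * s₂ * (t * u) by group, e3]
        group
      rw [e] at hm
      exact mul_inv_eq_one.1 (hMS _ (S.mul_mem (S.mul_mem hs₁ hs₂) (S.inv_mem (S.mul_mem hs₂ hs₁))) hm)
  have hS'K : S' ≤ K := ((hconj h₀).resolve_left hh₀L).2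
  have hcomm : ∀ s ∈ S, ∀ t ∈ S', s * t = t * s := fun s hs t ht =>
    Subgroup.mem_centralizer_iff.1 (hS'K ht).2 s hs
  have hP0' : ∀ t ∈ S', ∃ s ∈ S, t * s ∈ M := by
    intro t ht
    choose f hf hfm using hP0.2
    let F : S → S' := fun s => ⟨f s s.2, hf s s.2⟩
    have hcard : Nat.card S = Nat.card S' :=
      Nat.card_congr (S.equivMapOfInjective _ (MulAut.conj h₀).injective).toEquiv
    have hinj : Function.Injective F := by
      intro u v huv
      have h1 : f u u.2 = f v v.2 := congrArg Subtype.val huv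
      have hm := M.mul_mem (hfm u u.2) (M.inv_mem (hfm v v.2))
      rw [h1, show (u : G) * f v v.2 * ((v : G) * f v v.2)⁻¹ = (u : G) * (v : G)⁻¹ by group] at hm
      exact Subtype.ext (mul_inv_eq_one.1 (hMS _ (S.mul_mem u.2 (S.inv_mem v.2)) hm))
    obtain ⟨s, hs⟩ := ((Nat.bijective_iff_injective_and_card F).2 ⟨hinj, hcard⟩).2 ⟨t, ht⟩
    refine ⟨s, s.2, ?_⟩
    rw [← hcomm s s.2 t ht]
    have := hfm s s.2
    rwa [show f s s.2 = t from congrArg Subtype.val hs] at this
  have hPsym : Partner S' S := ⟨by rw [inf_comm]; exact hP0.1, hP0'⟩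
  -- the stabiliser of the pair
  let L2 : Subgroup G :=
    { carrier := {g | (conjSub g S = S ∧ conjSub g S' = S') ∨ (conjSub g S = S' ∧ conjSub g S' = S)}
      one_mem' := Or.inl ⟨conjSub_one S, conjSub_one S'⟩
      mul_mem' := by
        rintro u v (⟨h1, h2⟩ | ⟨h1, h2⟩) (⟨h3, h4⟩ | ⟨h3, h4⟩)
        · exact Or.inl ⟨by rw [conjSub_mul, h3, h1], by rw [conjSub_mul, h4, h2]⟩
        · exact Or.inr ⟨by rw [conjSub_mul, h3, h2], by rw [conjSub_mul, h4, h1]⟩
        · exact Or.inr ⟨by rw [conjSub_mul, h3, h1], by rw [conjSub_mul, h4, h2]⟩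
        · exact Or.inl ⟨by rw [conjSub_mul, h3, h2], by rw [conjSub_mul, h4, h1]⟩
      inv_mem' := by
        have hinv : ∀ (u : G) (A B : Subgroup G), conjSub u A = B → conjSub u⁻¹ B = A := fun u A B h => by
          rw [← h, ← conjSub_mul, inv_mul_cancel, conjSub_one]
        rintro u (⟨h1, h2⟩ | ⟨h1, h2⟩)
        · exact Or.inl ⟨hinv _ _ _ h1, hinv _ _ _ h2⟩
        · exact Or.inr ⟨hinv _ _ _ h2, hinv _ _ _ h1⟩ }
  have hall : ∀ h ∈ H, h ∈ L2 := by
    by_contra hcon
    simp only [not_forall] at hcon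
    obtain ⟨g, hgH, hgL⟩ := hcon
    refine hMne (hMbot fun y hy m hm => ?_)
    by_cases hy1 : y = 1
    · simpa [hy1] using hm
    refine (hfix y hy L2 (fun m hm => Or.inl ⟨hNfix m hm.1, ?_⟩) ⟨g, hgH, hgL⟩ fun h hh hfy => ?_).2 m hm
    · rw [hS', ← conjSub_mul, show m * h₀ = h₀ * (h₀⁻¹ * m * h₀) by group, conjSub_mul,
        hNfix _ (by simpa using hN.conj_mem m hm.1 h₀⁻¹)]
    · by_cases hhL : h ∈ L
      · have hhS : conjSub h S = S := hhL
        refine Or.inl ⟨hhS, ?_⟩
        have := hPh h hh S S' hP0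
        rw [hhS, hS', ← conjSub_mul] at this
        rw [hS', ← conjSub_mul]
        exact huniq _ _ this hP0
      · have h1 : conjSub h S = S' := huniq _ _ (hpart y hy h hh hy1 hfy hhL) hP0
        refine Or.inr ⟨h1, ?_⟩
        have h2 := hPh h⁻¹ (H.inv_mem hh) S' S hPsym
        have h3 : conjSub h⁻¹ S' = S := by
          rw [← h1, ← conjSub_mul, inv_mul_cancel, conjSub_one]
        rw [h3] at h2
        have h4 : conjSub h⁻¹ S = S' := huniq _ _ h2 hP0
        rw [← h4, ← conjSub_mul, mul_inv_cancel, conjSub_one]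
  have hS'N : S' ≤ N := fun t ht => (hS'K ht).1
  have hNprod : ∀ n ∈ N, ∃ s ∈ S, ∃ t ∈ S', n = s * t := by
    let Q : Subgroup G :=
      { carrier := {n | ∃ s ∈ S, ∃ t ∈ S', n = s * t}
        one_mem' := ⟨1, S.one_mem, 1, S'.one_mem, by group⟩
        mul_mem' := by
          rintro - - ⟨s, hs, k, hk, rfl⟩ ⟨s', hs', k', hk', rfl⟩
          refine ⟨s * s', S.mul_mem hs hs', k * k', S'.mul_mem hk hk', ?_⟩
          rw [mul_assoc s k, ← mul_assoc k s', ← hcomm s' hs' k hk]
          group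
        inv_mem' := by
          rintro - ⟨s, hs, k, hk, rfl⟩
          refine ⟨s⁻¹, S.inv_mem hs, k⁻¹, S'.inv_mem hk, ?_⟩
          rw [mul_inv_rev, hcomm _ (S.inv_mem hs) _ (S'.inv_mem hk)] }
    refine fun n hn => hgen Q (fun g y hy => ?_) hn
    obtain ⟨h, hh, hgh⟩ := hconjH g
    rcases hall h hh with ⟨h1, -⟩ | ⟨h1, -⟩
    · exact ⟨y, (hgh.trans h1).le hy, 1, one_mem _, by group⟩
    · exact ⟨1, S.one_mem, y, (hgh.trans h1).le hy, by group⟩
  have : Nontrivial S := (Subgroup.nontrivial_iff_ne_bot S).2 hS1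
  have : IsSimpleGroup S := by
    refine ⟨fun X hX => ?_⟩
    rcases hsimp (X.map S.subtype) (Subgroup.map_subtype_le X) (fun s hs z hz => by
      obtain ⟨z', hz', rfl⟩ := hz
      exact ⟨_, hX.conj_mem z' hz' ⟨s, hs⟩, rfl⟩) with h | h
    · exact Or.inl ((Subgroup.map_eq_bot_iff_of_injective X S.subtype_injective).1 h)
    · exact Or.inr (Subgroup.map_injective S.subtype_injective
        (h.trans (by rw [← MonoidHom.range_eq_map, Subgroup.range_subtype])))
  refine no_regular_case a S hSnc hep (fun ω => ?_) (fun h hh => ?_) fun t ht => ?_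
  · obtain ⟨⟨y, hy⟩, rfl⟩ := exists_smul_eq N a ω
    obtain ⟨s, hs, t, ht, rfl⟩ := hNprod y hy
    obtain ⟨s₀, hs₀, hm⟩ := hP0' t ht
    have hta : t • a = s₀⁻¹ • a := by
      have h1 : (t * s₀) • a = a := hm.2
      rw [← hcomm s₀ hs₀ t ht, mul_smul] at h1
      exact eq_inv_smul_iff.2 h1
    refine ⟨⟨s * s₀⁻¹, S.mul_mem hs (S.inv_mem hs₀)⟩, ?_, fun s' hs' => ?_⟩
    · show (s * s₀⁻¹) • a = (s * t) • a
      rw [mul_smul, mul_smul, hta]
    · have h1 : (s' : G) • a = (s * s₀⁻¹) • a := by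
        rw [mul_smul, ← hta, ← mul_smul]; exact hs'
      have h2 : (s * s₀⁻¹)⁻¹ * (s' : G) ∈ M := by
        refine ⟨N.mul_mem (N.inv_mem (hSN (S.mul_mem hs (S.inv_mem hs₀)))) (hSN s'.2), ?_⟩
        show ((s * s₀⁻¹)⁻¹ * (s' : G)) • a = a
        rw [mul_smul, h1, inv_smul_smul]
      exact Subtype.ext (inv_mul_eq_one.1 (hMS _ (S.mul_mem (S.inv_mem (S.mul_mem hs (S.inv_mem hs₀))) s'.2) h2)).symm
  · rcases hall h hh with ⟨h1, -⟩ | ⟨h1, -⟩
    · exact Or.inl h1
    · exact Or.inr fun y hy s hs => (hcomm s hs y (h1.le hy)).symm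
  · obtain ⟨t', ht', hm⟩ := hP0.2 t ht
    exact ⟨t', fun s hs => hcomm s hs t' ht', hm.2⟩

end structureLemmas

end Cfsg.Agent.ExtremelyPrimitive

namespace Cfsg.Agent.ExtremelyPrimitive

open MulAction

/-- An extremely primitive group is affine or almost simple. -/
theorem affine_or_almostSimple {G : Type*} [Group G] [Finite G] {Ω : Type*} [MulAction G Ω]
    [FaithfulSMul G Ω] [Nontrivial Ω] [IsPreprimitive G Ω]
    (hep : ∀ α ω : Ω, IsPreprimitive (stabilizer G α) (orbit (stabilizer G α) ω)) :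
    (∃ N : Subgroup G, N.Normal ∧ N ≠ ⊥ ∧ IsMulCommutative N ∧ ∀ ω : Ω, stabilizer N ω = ⊥) ∨
    (∃ T : Subgroup G, T.Normal ∧ IsSimpleGroup T ∧ ¬ IsMulCommutative T ∧
      Subgroup.centralizer (T : Set G) = ⊥) := by
  obtain ⟨a, a', haa⟩ := exists_pair_ne Ω
  have hGn : (⊤ : Subgroup G) ≠ ⊥ := by
    intro h
    obtain ⟨g, hg⟩ := exists_smul_eq G a a'
    rw [(Subgroup.mem_bot.1 (h ▸ Subgroup.mem_top g) : g = 1), one_smul] at hg
    exact haa hg
  obtain ⟨N, -, hNmin'⟩ := Finite.exists_le_minimal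
    (p := fun K : Subgroup G => K.Normal ∧ K ≠ ⊥) (a := ⊤) ⟨inferInstance, hGn⟩
  obtain ⟨⟨hN, hN1⟩, hNle⟩ := hNmin'
  have hmin : ∀ K : Subgroup G, K.Normal → K ≤ N → K ≠ ⊥ → K = N :=
    fun K hK hKN hK1 => le_antisymm hKN (hNle ⟨hK, hK1⟩ hKN)
  have htrans : ∀ M : Subgroup G, M.Normal → M ≠ ⊥ → IsPretransitive M Ω := by
    intro M hM hM1
    refine IsQuasiPreprimitive.isPretransitive_of_normal fun h => hM1 (le_bot_iff.1 fun m hm => ?_)
    refine eq_of_smul_eq_smul (α := Ω) fun ω => ?_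
    have := (Set.eq_univ_iff_forall.1 h ω) ⟨m, hm⟩
    rw [one_smul]; exact this
  have := htrans N hN hN1
  have hcent : ∀ M : Subgroup G, IsPretransitive M Ω → ∀ n : G, (∀ m ∈ M, m * n = n * m) →
      ∀ ω : Ω, n • ω = ω → n = 1 := by
    intro M _ n hn ω hω
    refine eq_of_smul_eq_smul (α := Ω) fun ω' => ?_
    obtain ⟨m, rfl⟩ := exists_smul_eq M ω ω'
    rw [one_smul]
    show n • (m : G) • ω = (m : G) • ω
    rw [smul_smul, ← hn m m.2, mul_smul, hω]
  by_cases hc : ∀ x ∈ N, ∀ y ∈ N, x * y = y * x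
  · refine Or.inl ⟨N, hN, hN1, ⟨⟨fun x y => Subtype.ext (hc x x.2 y y.2)⟩⟩, fun ω => ?_⟩
    refine eq_bot_iff.2 fun n hn => Subgroup.mem_bot.2 (Subtype.ext ?_)
    exact hcent N inferInstance n (fun m hm => hc m hm n n.2) ω hn
  · right
    have hcoat := IsPreprimitive.isCoatom_stabilizer_of_isPreprimitive G a
    -- a centraliser of the stabiliser fixes the point
    have hcore : ∀ n : G, (∀ h ∈ stabilizer G a, h * n = n * h) → n ∈ N → n • a = a := by
      intro n hn hnN
      by_contra hna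
      have hst : stabilizer G a = ⊥ := by
        have hle : Subgroup.normalizer ((stabilizer G a : Subgroup G) : Set G) = ⊤ := by
          refine hcoat.2 _ (lt_of_le_of_ne Subgroup.le_normalizer fun h => hna ?_)
          refine mem_stabilizer_iff.1 (h.ge (Subgroup.mem_normalizer_iff.2 fun g => ?_))
          constructor
          · intro hg
            have := hn g hg
            rw [show n * g * n⁻¹ = g by rw [← this]; group]
            exact hg
          · intro hg
            have hg' := hn _ hg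
            have he : n * g * n⁻¹ = g := by
              calc n * g * n⁻¹ = n⁻¹ * (n * (n * g * n⁻¹)) := by group
                _ = n⁻¹ * (n * g * n⁻¹ * n) := by rw [hg']
                _ = g := by group
            rwa [he] at hg
        have hnorm : (stabilizer G a).Normal := Subgroup.normalizer_eq_top_iff.1 hle
        exact eq_bot_of_fix N a (fun g _ k hk => hnorm.conj_mem k hk g) fun k hk => hk
      refine hc fun x _ y _ => ?_
      by_cases hx : x = 1
      · simp [hx]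
      have htop : Subgroup.zpowers x = ⊤ := hcoat.2 _ (by rw [hst, bot_lt_iff_ne_bot, Ne, Subgroup.zpowers_eq_bot]; exact hx)
      obtain ⟨i, rfl⟩ := (htop ▸ Subgroup.mem_top y : y ∈ Subgroup.zpowers x)
      exact ((Commute.refl x).zpow_right i).eq
    obtain ⟨S, -, hS'⟩ := Finite.exists_le_minimal
      (p := fun K : Subgroup G => K ≠ ⊥ ∧ K ≤ N ∧ ∀ n ∈ N, ∀ k ∈ K, n * k * n⁻¹ ∈ K) (a := N)
      ⟨hN1, le_rfl, fun n hn k hk => N.mul_mem (N.mul_mem hn hk) (N.inv_mem hn)⟩
    obtain ⟨⟨hS1, hSN, hSn⟩, hSle⟩ := hS'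
    have hSmin : ∀ K : Subgroup G, K ≤ S → K ≠ ⊥ → (∀ n ∈ N, ∀ k ∈ K, n * k * n⁻¹ ∈ K) → K = S :=
      fun K hK h1 h2 => le_antisymm hK (hSle ⟨h1, hK.trans hSN, h2⟩ hK)
    by_cases hne : S = N
    swap
    · exact (non_simple N a (hep a) hcore hmin hc S hS1 hSN hSn hSmin hne).elim
    subst hne
    have : Nontrivial S := (Subgroup.nontrivial_iff_ne_bot S).2 hS1
    have hsimple : IsSimpleGroup S := by
      refine ⟨fun K hK => ?_⟩
      by_cases h : K.map S.subtype = ⊥
      · left; exact (Subgroup.map_eq_bot_iff_of_injective K S.subtype_injective).1 h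
      · right
        have hKS : K.map S.subtype = S := hSmin _ (Subgroup.map_subtype_le K) h fun n hn k hk => by
          obtain ⟨k', hk', rfl⟩ := hk
          exact ⟨_, hK.conj_mem k' hk' ⟨n, hn⟩, rfl⟩
        exact Subgroup.map_injective S.subtype_injective
          (hKS.trans (by rw [← MonoidHom.range_eq_map, Subgroup.range_subtype]))
    refine ⟨S, hN, hsimple, fun hcomm => hc fun x hx y hy =>
      congrArg Subtype.val (hcomm.is_comm.comm (⟨x, hx⟩ : S) ⟨y, hy⟩), ?_⟩
    by_contra hC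
    have hCt := htrans _ inferInstance hC
    have hsr : ∀ s ∈ S, ∀ ω : Ω, s • ω = ω → s = 1 := fun s hs ω hω =>
      hcent _ hCt s (fun m hm => (Subgroup.mem_centralizer_iff.1 hm s hs).symm) ω hω
    refine no_regular_case a S hc (hep a) (fun ω => ?_) (fun h _ => Or.inl ?_) fun t ht => ?_
    · obtain ⟨y, rfl⟩ := exists_smul_eq S a ω
      refine ⟨y, rfl, fun z hz => Subtype.ext ?_⟩
      refine (inv_mul_eq_one.1 (hsr _ (S.mul_mem (S.inv_mem y.2) z.2) a ?_)).symm
      rw [mul_smul, show (z : G) • a = (y : G) • a from hz, inv_smul_smul]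
    · ext x
      rw [mem_conjSub]
      exact ⟨fun hx => by simpa [mul_assoc] using hN.conj_mem _ hx h,
        fun hx => by simpa using hN.conj_mem x hx h⁻¹⟩
    · obtain ⟨c, hc'⟩ := exists_smul_eq (Subgroup.centralizer (S : Set G)) a (t⁻¹ • a)
      refine ⟨c, fun s hs => Subgroup.mem_centralizer_iff.1 c.2 s hs, ?_⟩
      rw [mem_stabilizer_iff, mul_smul, show (c : G) • a = t⁻¹ • a from hc', smul_inv_smul]

end Cfsg.Agent.ExtremelyPrimitive
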